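import Groth.Agent.VarDim.Top
import Groth.Agent.VarDim.Fibre
import Mathlib.RingTheory.NoetherNormalization
import Mathlib.AlgebraicGeometry.AffineSpace

/-!
Maps from affine schemes of finite type over a field to affine spaces.
-/

set_option autoImplicit false
set_option linter.style.haveILetI false
set_option backward.isDefEq.respectTransparency false
set_option backward.isDefEq.respectTransparency.types false

universe u

open CategoryTheory AlgebraicGeometry MvPolynomial

namespace Groth.Agent.H4DimAffine

variable {k : Type u} [Field k] {R : Type u} [CommRing R] [Algebra k R] [Algebra.FiniteType k R] {n : ℕ}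

theorem ringKrullDim_mvPoly (σ : Type*) [Finite σ] :
    ringKrullDim (MvPolynomial σ k) = Nat.card σ := by
  rw [MvPolynomial.ringKrullDim_of_isNoetherianRing, ringKrullDim_eq_zero_of_field, zero_add]

theorem exists_noether [Nontrivial R] :
    ∃ (d : ℕ) (g : MvPolynomial (Fin d) k →ₐ[k] R), Function.Injective g ∧ g.Finite ∧ ringKrullDim R = d := by
  obtain ⟨d, g, hinj, hfin⟩ := exists_finite_inj_algHom_of_fg k R
  refine ⟨d, g, hinj, hfin, ?_⟩
  letI : Algebra (MvPolynomial (Fin d) k) R := g.toRingHom.toAlgebra
  haveI : FaithfulSMul (MvPolynomial (Fin d) k) R := (faithfulSMul_iff_algebraMap_injective _ _).2 hinj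
  haveI : Module.Finite (MvPolynomial (Fin d) k) R := hfin
  haveI : Algebra.IsIntegral (MvPolynomial (Fin d) k) R := Algebra.IsIntegral.of_finite _ _
  rw [VarDim.ringKrullDim_eq_of_isIntegral (R := MvPolynomial (Fin d) k) (S := R), ringKrullDim_mvPoly, Nat.card_fin]

theorem comap_surjective_of_finite {d : ℕ} (g : MvPolynomial (Fin d) k →ₐ[k] R) (hinj : Function.Injective g)
    (hfin : g.Finite) : Function.Surjective (PrimeSpectrum.comap g.toRingHom) := by
  letI : Algebra (MvPolynomial (Fin d) k) R := g.toRingHom.toAlgebra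
  haveI : FaithfulSMul (MvPolynomial (Fin d) k) R := (faithfulSMul_iff_algebraMap_injective _ _).2 hinj
  haveI : Module.Finite (MvPolynomial (Fin d) k) R := hfin
  haveI : Algebra.IsIntegral (MvPolynomial (Fin d) k) R := Algebra.IsIntegral.of_finite _ _
  exact Algebra.IsIntegral.comap_surjective (MvPolynomial (Fin d) k) R

variable {σ : Type u} [Fintype σ]

theorem exists_surjective_of_le (h : (n : WithBot ℕ∞) ≤ ringKrullDim R) (hσ : Fintype.card σ = n) :
    ∃ φ : MvPolynomial σ k →ₐ[k] R, Function.Surjective (PrimeSpectrum.comap φ.toRingHom) ∧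
      (ringKrullDim R = n → φ.Finite) := by
  haveI : Nontrivial R := by
    by_contra hne
    rw [not_nontrivial_iff_subsingleton] at hne
    rw [ringKrullDim_eq_bot_of_subsingleton] at h
    exact WithBot.natCast_ne_bot n (le_bot_iff.1 h)
  obtain ⟨d, g, hinj, hfin, hd⟩ := exists_noether (k := k) (R := R)
  rw [hd] at h
  have hnd : n ≤ d := by exact_mod_cast h
  let eσ : σ ≃ Fin n := Fintype.equivFinOfCardEq hσ
  let e : σ → Fin d := Fin.castLE hnd ∘ eσ
  have he : Function.Injective e := (Fin.castLE_injective hnd).comp eσ.injective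
  refine ⟨g.comp (rename e), ?_, fun hn => ?_⟩
  · refine fun p => ?_
    have hk : Function.Surjective (PrimeSpectrum.comap (rename e : MvPolynomial σ k →ₐ[k] MvPolynomial (Fin d) k).toRingHom) := by
      intro q
      refine ⟨PrimeSpectrum.comap (MvPolynomial.killCompl he).toRingHom q, PrimeSpectrum.ext ?_⟩
      show (q.asIdeal.comap (MvPolynomial.killCompl he).toRingHom).comap _ = q.asIdeal
      rw [Ideal.comap_comap]
      ext a
      simp [MvPolynomial.killCompl_rename_app]
    obtain ⟨q, hq⟩ := hk p
    obtain ⟨r, hr⟩ := comap_surjective_of_finite g hinj hfin q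
    exact ⟨r, by rw [← hq, ← hr]; rfl⟩
  · rw [hd] at hn
    have hdn : d = n := by exact_mod_cast hn
    refine RingHom.Finite.comp hfin ?_
    refine RingHom.Finite.of_surjective _ (MvPolynomial.rename_surjective _ ?_)
    have hb : Function.Bijective e := by
      rw [Fintype.bijective_iff_injective_and_card]
      exact ⟨he, by rw [hσ, Fintype.card_fin, hdn]⟩
    exact hb.2

theorem exists_finite_of_le (h : ringKrullDim R ≤ n) (hσ : Fintype.card σ = n) :
    ∃ φ : MvPolynomial σ k →ₐ[k] R, φ.Finite := by
  rcases subsingleton_or_nontrivial R with hR | hR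
  · exact ⟨MvPolynomial.aeval fun _ => 0, RingHom.Finite.of_surjective _ fun _ => ⟨0, Subsingleton.elim _ _⟩⟩
  obtain ⟨d, g, hinj, hfin, hd⟩ := exists_noether (k := k) (R := R)
  rw [hd] at h
  have hdn : d ≤ n := by exact_mod_cast h
  let eσ : σ ≃ Fin n := Fintype.equivFinOfCardEq hσ
  let e : Fin d → σ := eσ.symm ∘ Fin.castLE hdn
  have he : Function.Injective e := eσ.symm.injective.comp (Fin.castLE_injective hdn)
  refine ⟨g.comp (killCompl he), RingHom.Finite.comp hfin (RingHom.Finite.of_surjective _ fun a => ?_)⟩
  exact ⟨rename e a, killCompl_rename_app he a⟩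

end Groth.Agent.H4DimAffine
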